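import Cfsg.Agent.H760.MpFactor
import Cfsg.Agent.H781.Transport

/-!
# Central subgroups, iterated factor systems, realized systems as functions (helper876)

Tools for the theorem "`F` is exotic iff `F/A` is exotic, `A` central in `F`".

* `mp_central`, `mp_fix`, `central_mono`, `central_stronglyClosed`, `central_comm`;
* `mp_descend` : maps of `F` on the full preimage of `P'` descend to `F/A`;
* `factor_factor` : `F/A` is the factor system of `F/B` modulo `A/B`;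
* `central_image` : the image of a central subgroup in a factor system is central;
* `mp_iff_realized`, `exists_mp_conj` : the maps of a realized system;
* `factor_comp` : if `F/A` is realized by `ι : S' →* G` then `F_{ι(S')}(G)` is the factor system of `F` modulo `A`
  read through `ι ∘ θ`.
-/

set_option autoImplicit false

namespace Cfsg.Agent.H876.FC

open Cfsg Cfsg.FusionSystem Cfsg.Agent.H752 Cfsg.Agent.H760

section central

variable {Ω : Type*} [Group Ω] {S : Subgroup Ω} {F : FusionSystem S} {A B P : Subgroup Ω} {f : Ω → Ω}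

/-- A map extends to a map on `P A` that fixes `A`. -/
theorem mp_central (hA : F.IsCentral A) (hf : Mp F P f) :
    ∃ g : Ω → Ω, Mp F (P ⊔ A) g ∧ (∀ x ∈ P, g x = f x) ∧ ∀ a ∈ A, g a = a := by
  obtain ⟨φ, hφ, h⟩ := hf
  obtain ⟨ψ, hψ, h1, h2⟩ := hA.2 P φ hφ
  refine ⟨ex ψ, mp_ex hψ, fun x hx => ?_, fun a ha => ?_⟩
  · rw [ex_apply _ ((le_sup_left : P ≤ P ⊔ A) hx), ← h x hx]
    exact h1 ⟨x, hx⟩
  · rw [ex_apply _ ((le_sup_right : A ≤ P ⊔ A) ha)]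
    exact h2 ⟨a, ha⟩

theorem central_of_mp (hAS : A ≤ S) (h : ∀ (P : Subgroup Ω) (f : Ω → Ω), Mp F P f →
    ∃ g : Ω → Ω, Mp F (P ⊔ A) g ∧ (∀ x ∈ P, g x = f x) ∧ ∀ a ∈ A, g a = a) : F.IsCentral A := by
  refine ⟨hAS, fun P φ hφ => ?_⟩
  obtain ⟨g, ⟨ψ, hψ, h1⟩, h2, h3⟩ := h P (ex φ) (mp_ex hφ)
  refine ⟨ψ, hψ, fun x => ?_, fun a => ?_⟩
  · have h4 := h1 x ((le_sup_left : P ≤ P ⊔ A) x.2)
    rw [h2 x x.2, ex_coe] at h4
    exact h4
  · have h4 := h1 a ((le_sup_right : A ≤ P ⊔ A) a.2)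
    rw [h3 a a.2] at h4
    exact h4

/-- A map fixes the elements of a central subgroup. -/
theorem mp_fix (hA : F.IsCentral A) (hf : Mp F P f) {a : Ω} (ha : a ∈ A) (haP : a ∈ P) :
    f a = a := by
  obtain ⟨g, -, h1, h2⟩ := mp_central hA hf
  rw [← h1 a haP, h2 a ha]

theorem central_comm (hA : F.IsCentral A) {a s : Ω} (ha : a ∈ A) (hs : s ∈ S) :
    s * a = a * s := by
  have h := mp_fix hA (mp_conj F le_rfl hs) ha (hA.1 ha)
  have h1 : s * a * s⁻¹ = a := h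
  calc s * a = s * a * s⁻¹ * s := by group
    _ = a * s := by rw [h1]

theorem central_mono (hA : F.IsCentral A) (h : B ≤ A) : F.IsCentral B := by
  refine central_of_mp (h.trans hA.1) fun P f hf => ?_
  obtain ⟨g, hg, h1, h2⟩ := mp_central hA hf
  exact ⟨g, hg.res (sup_le_sup_left h P), h1, fun b hb => h2 b (h hb)⟩

theorem central_stronglyClosed (hA : F.IsCentral A) : F.StronglyClosed A := by
  refine ⟨hA.1, fun R hR φ hφ x => ?_⟩
  have h := mp_fix hA (mp_ex hφ) (hR x.2) x.2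
  rw [ex_coe] at h
  rw [h]
  exact hR x.2

theorem central_subset_center [Finite S] (hA : F.IsCentral A) {x : Ω} (hx : x ∈ A) :
    x ∈ Subgroup.centralizer (S : Set Ω) := by
  rw [Subgroup.mem_centralizer_iff]
  intro s hs
  exact central_comm hA hx hs

end central

section factor

variable {Ω : Type*} [Group Ω] {S : Subgroup Ω} {F : FusionSystem S} {A B P : Subgroup Ω} {f : Ω → Ω}
variable {Ω₁ : Type*} [Group Ω₁] {S₁ : Subgroup Ω₁} {F₁ : FusionSystem S₁} {θ₁ : S →* Ω₁}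

theorem tx_mem_of_factor (h₁ : F.IsFactorSystem B θ₁ F₁) (x : Ω) : tx θ₁ x ∈ S₁ := by
  rw [← h₁.2.2.1]
  exact tx_mem_range x

/-- A map of `F` descends to every `P'` whose full preimage lies in its source. -/
theorem mp_descend (hB : F.StronglyClosed B) (h₁ : F.IsFactorSystem B θ₁ F₁) (hf : Mp F P f)
    {P' : Subgroup Ω₁} (hP' : P' ≤ S₁) (hP : preimageAlong θ₁ P' ≤ P) :
    ∃ f' : Ω₁ → Ω₁, Mp F₁ P' f' ∧ ∀ x ∈ preimageAlong θ₁ P', f' (tx θ₁ x) = tx θ₁ (f x) := by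
  obtain ⟨φ, hφ, h⟩ := hf
  obtain ⟨φ', hφ', h2⟩ := H759.exists_factor_map hB h₁ hφ hP' hP
  refine ⟨ex φ', mp_ex hφ', fun x hx => ?_⟩
  obtain ⟨hxS, hx'⟩ := mem_pre_iff.1 hx
  have h3 : θ₁ ⟨x, hxS⟩ ∈ P' := by rw [← tx_apply θ₁ hxS]; exact hx'
  have h4 : φ ⟨x, hP hx⟩ ∈ S := (F.le_of_mem hφ).2 _
  have h5 := h2 x (hP hx) hxS h3 h4
  rw [tx_apply θ₁ hxS, ex_apply _ h3, h5, ← tx_apply θ₁ h4, h x (hP hx)]

theorem mem_pre_of_mem (h₁ : F.IsFactorSystem B θ₁ F₁) {P' : Subgroup Ω₁} {b : Ω} (hb : b ∈ B) :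
    b ∈ preimageAlong θ₁ P' := by
  refine mem_pre_iff.2 ⟨h₁.1 hb, ?_⟩
  rw [(tx_eq_one_iff h₁.2.1 (h₁.1 hb)).2 hb]
  exact one_mem _

/-- The full preimage of a join with an image. -/
theorem pre_sup_image_le (h₁ : F.IsFactorSystem B θ₁ F₁) {P' : Subgroup Ω₁} (hP' : P' ≤ S₁)
    (hAS : A ≤ S) : preimageAlong θ₁ (P' ⊔ imageAlong θ₁ A) ≤ preimageAlong θ₁ P' ⊔ A := by
  intro x hx
  obtain ⟨hxS, hx'⟩ := mem_pre_iff.1 hx
  have h1 : P' ⊔ imageAlong θ₁ A = imageAlong θ₁ (preimageAlong θ₁ P' ⊔ A) := by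
    rw [image_sup H759.preimageAlong_le hAS, image_pre h₁ hP']
  rw [h1] at hx'
  obtain ⟨y, hy, hyS, hyx⟩ := mem_image_iff.1 hx'
  have h2 : y⁻¹ * x ∈ B := (tx_eq_iff h₁.2.1 hyS hxS).1 hyx
  have h3 : x = y * (y⁻¹ * x) := by group
  rw [h3]
  exact mul_mem hy ((le_sup_left : preimageAlong θ₁ P' ≤ _) (mem_pre_of_mem h₁ h2))

/-- The image of a central subgroup in a factor system is central. -/
theorem central_image (hB : F.StronglyClosed B) (hA : F.IsCentral A)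
    (h₁ : F.IsFactorSystem B θ₁ F₁) : F₁.IsCentral (imageAlong θ₁ A) := by
  have hAS := hA.1
  refine central_of_mp (image_le h₁ A) fun P' f' hf' => ?_
  obtain ⟨hP', f, hf, h2⟩ := (mp_factor_iff hB h₁).1 hf'
  obtain ⟨g, hg, h3, h4⟩ := mp_central hA hf
  have hle : P' ⊔ imageAlong θ₁ A ≤ S₁ := sup_le hP' (image_le h₁ A)
  obtain ⟨g', hg', h5⟩ := mp_descend hB h₁ hg hle (pre_sup_image_le h₁ hP' hAS)
  refine ⟨g', hg', ?_, ?_⟩
  · refine factor_ext h₁ hP' fun x hx => ?_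
    rw [h5 x (H759.preimageAlong_mono le_sup_left hx), h3 x hx, h2 x hx]
  · intro y hy
    obtain ⟨a, ha, haS, rfl⟩ := mem_image_iff.1 hy
    have hpre : a ∈ preimageAlong θ₁ (P' ⊔ imageAlong θ₁ A) :=
      mem_pre_iff.2 ⟨haS, (le_sup_right : imageAlong θ₁ A ≤ _) (mem_image_of_mem ha haS)⟩
    rw [h5 a hpre, h4 a ha]

/-- The factor system modulo `A` is the factor system modulo `A/B` of the factor system modulo `B`. -/
theorem factor_factor {Ω' : Type*} [Group Ω'] {S' : Subgroup Ω'} (hB : F.StronglyClosed B) (hBA : B ≤ A)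
    (hA : F.StronglyClosed A) (h₁ : F.IsFactorSystem B θ₁ F₁) {θ : S →* Ω'} {E : FusionSystem S'}
    (hE : F.IsFactorSystem A θ E) :
    ∃ θ' : S₁ →* Ω', (∀ x ∈ S, tx θ' (tx θ₁ x) = tx θ x) ∧
      F₁.IsFactorSystem (imageAlong θ₁ A) θ' E := by
  obtain ⟨hB1, hB2, hB3, hB4⟩ := id h₁
  subst hB3
  have hsurj : Function.Surjective θ₁.rangeRestrict := θ₁.rangeRestrict_surjective
  have hker : θ₁.rangeRestrict.ker ≤ θ.ker := by
    intro s hs
    rw [MonoidHom.mem_ker] at hs ⊢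
    have h1 : θ₁ s = 1 := congrArg Subtype.val hs
    exact (hE.2.1 s).2 (hBA ((hB2 s).1 h1))
  set θ' : θ₁.range →* Ω' := θ₁.rangeRestrict.liftOfSurjective hsurj ⟨θ, hker⟩ with hθ'
  have hval : ∀ s : S, θ' (θ₁.rangeRestrict s) = θ s := by
    intro s
    exact MonoidHom.liftOfRightInverse_comp_apply _ _ _ ⟨θ, hker⟩ s
  have hval' : ∀ x ∈ S, tx θ' (tx θ₁ x) = tx θ x := by
    intro x hx
    rw [tx_apply θ hx, ← hval ⟨x, hx⟩, tx_apply θ₁ hx]
    exact tx_apply θ' (x := θ₁ ⟨x, hx⟩) ⟨⟨x, hx⟩, rfl⟩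
  have hkerθ : ∀ s : θ₁.range, θ' s = 1 ↔ (s : Ω₁) ∈ imageAlong θ₁ A := by
    rintro ⟨_, s, rfl⟩
    have h1 : θ' ⟨θ₁ s, ⟨s, rfl⟩⟩ = θ s := hval s
    rw [h1, hE.2.1]
    constructor
    · intro hs
      have h2 : tx θ₁ (s : Ω) ∈ imageAlong θ₁ A := mem_image_of_mem hs s.2
      rw [tx_coe] at h2
      exact h2
    · intro hs
      obtain ⟨a, ha, haS, h2⟩ := mem_image_iff.1 hs
      have h2' : tx θ₁ a = tx θ₁ (s : Ω) := by rw [tx_coe]; exact h2
      rw [tx_eq_iff hB2 haS s.2] at h2'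
      have h3 : (s : Ω) = a * (a⁻¹ * s) := by group
      rw [h3]
      exact mul_mem ha (hBA h2')
  have hrange : θ'.range = S' := by
    rw [← hE.2.2.1]
    ext y
    constructor
    · rintro ⟨⟨_, s, rfl⟩, rfl⟩
      exact ⟨s, (hval s).symm⟩
    · rintro ⟨s, rfl⟩
      exact ⟨_, hval s⟩
  have hprepre : ∀ P' : Subgroup Ω', preimageAlong θ₁ (preimageAlong θ' P') = preimageAlong θ P' := by
    intro P'
    ext x
    rw [mem_pre_iff, mem_pre_iff, mem_pre_iff]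
    constructor
    · rintro ⟨hx, -, h⟩
      rw [hval' x hx] at h
      exact ⟨hx, h⟩
    · rintro ⟨hx, h⟩
      refine ⟨hx, tx_mem_range x, ?_⟩
      rw [hval' x hx]
      exact h
  have hSC₁ : F₁.StronglyClosed (imageAlong θ₁ A) := H759.stronglyClosed_image h₁ hA
  refine ⟨θ', hval', hSC₁.1, hkerθ, hrange, fun P' φ' => ⟨fun hφ' => ?_, ?_⟩⟩
  · have hP' : P' ≤ S' := (E.le_of_mem hφ').1
    refine ⟨hP', ?_⟩
    obtain ⟨-, f, hf, h2⟩ := (mp_factor_iff hA hE).1 (mp_ex hφ')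
    have hle : preimageAlong θ' P' ≤ θ₁.range := H759.preimageAlong_le
    obtain ⟨f₁, hf₁, h3⟩ := mp_descend hB h₁ hf hle (hprepre P').le
    obtain ⟨φ₁, hφ₁, h4⟩ := hf₁
    refine ⟨φ₁, hφ₁, hle, (F₁.le_of_mem hφ₁).2, fun x => ?_, fun x => ?_⟩
    · have := (mem_pre_iff.1 x.2).2
      rwa [tx_apply θ' (hle x.2)] at this
    ·
      obtain ⟨y, hy, hyx⟩ := exists_tx h₁ (hle x.2)
      have hypre : y ∈ preimageAlong θ P' := by
        rw [← hprepre P']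
        refine mem_pre_iff.2 ⟨hy, ?_⟩
        rw [hyx]; exact x.2
      have h5 := h2 y hypre
      have h6 : φ₁ x = tx θ₁ (f y) := by
        have h7 := h4 x x.2
        have h8 := h3 y (by rw [hprepre P']; exact hypre)
        rw [hyx] at h8
        exact h7.trans h8
      have hfy : f y ∈ S := hf.mem hypre
      have h9 : θ' ⟨φ₁ x, (F₁.le_of_mem hφ₁).2 x⟩ = tx θ (f y) := by
        rw [← tx_apply θ' ((F₁.le_of_mem hφ₁).2 x), h6, hval' _ hfy]
      rw [h9, ← h5]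
      have h10 : θ' ⟨x, hle x.2⟩ = tx θ y := by
        rw [← tx_apply θ' (hle x.2), ← hyx, hval' _ hy]
      have h11 : tx θ y ∈ P' := (mem_pre_iff.1 hypre).2
      rw [ex_apply _ h11]
      congr 1
      exact Subtype.ext h10
  · rintro ⟨hP', φ₁, hφ₁, h2⟩
    obtain ⟨-, f, hf, h3⟩ := (mp_factor_iff hB h₁).1 (mp_ex hφ₁)
    have hf' : Mp F (preimageAlong θ P') f := by rw [← hprepre P']; exact hf
    have hkey : Mp E P' (ex φ') := by
      refine (mp_factor_iff hA hE).2 ⟨hP', f, hf', fun x hx => ?_⟩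
      have hxS : x ∈ S := (mem_pre_iff.1 hx).1
      have hx1 : x ∈ preimageAlong θ₁ (preimageAlong θ' P') := by rw [hprepre P']; exact hx
      have hx2 : tx θ₁ x ∈ preimageAlong θ' P' := (mem_pre_iff.1 hx1).2
      obtain ⟨h4, h5, h6, h7⟩ := h2
      have h8 := h7 ⟨tx θ₁ x, hx2⟩
      have h9 := h3 x hx1
      rw [ex_apply _ hx2] at h9
      have hx3 : tx θ x ∈ P' := (mem_pre_iff.1 hx).2
      have h10 : (⟨θ' ⟨tx θ₁ x, h4 hx2⟩, h6 ⟨_, hx2⟩⟩ : P') = ⟨tx θ x, hx3⟩ := by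
        apply Subtype.ext
        show θ' ⟨tx θ₁ x, h4 hx2⟩ = tx θ x
        rw [← tx_apply θ' (h4 hx2), hval' _ hxS]
      have h8' : φ' ⟨tx θ x, hx3⟩ = θ' ⟨φ₁ ⟨tx θ₁ x, hx2⟩, h5 ⟨tx θ₁ x, hx2⟩⟩ := by
        rw [← h10]; exact h8
      rw [ex_apply _ hx3, h8', ← tx_apply θ' (h5 ⟨tx θ₁ x, hx2⟩), h9,
        hval' _ (hf'.mem hx)]
    exact hkey.mem_hom fun x hx => (ex_apply _ hx).symm

end factor

section realized

variable {Ω : Type*} [Group Ω] {S : Subgroup Ω} {F : FusionSystem S} {P : Subgroup Ω} {f : Ω → Ω}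
variable {G : Type*} [Group G] {ι : S →* G}

theorem tx_inj (h : F.IsRealizedBy ι) {x y : Ω} (hx : x ∈ S) (hy : y ∈ S)
    (hxy : tx ι x = tx ι y) : x = y := by
  rw [tx_apply ι hx, tx_apply ι hy] at hxy
  exact congrArg Subtype.val (h.1 hxy)

/-- The maps of a realized system. -/
theorem mp_iff_realized (h : F.IsRealizedBy ι) : Mp F P f ↔
    P ≤ S ∧ (∀ x ∈ P, f x ∈ S) ∧ ∃ g : G, ∀ x ∈ P, tx ι (f x) = g * tx ι x * g⁻¹ := by
  constructor
  · rintro ⟨φ, hφ, h1⟩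
    have hP := (F.le_of_mem hφ).1
    have hφS := (F.le_of_mem hφ).2
    obtain ⟨g, hg⟩ := (h.2 P hP φ hφS).1 hφ
    refine ⟨hP, fun x hx => ?_, g, fun x hx => ?_⟩
    · rw [← h1 x hx]; exact hφS _
    · rw [← h1 x hx, tx_apply ι (hφS ⟨x, hx⟩), tx_apply ι (hP hx)]
      exact hg ⟨x, hx⟩
  · rintro ⟨hP, hfS, g, hg⟩
    have hmul : ∀ x y : P, f ((x * y : P) : Ω) = f x * f y := by
      intro x y
      refine tx_inj h (hfS _ (x * y).2) (mul_mem (hfS _ x.2) (hfS _ y.2)) ?_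
      rw [hg _ (x * y).2, tx_mul (hfS _ x.2) (hfS _ y.2), hg _ x.2, hg _ y.2, Subgroup.coe_mul,
        tx_mul (hP x.2) (hP y.2)]
      group
    let φ : P →* Ω := MonoidHom.mk' (fun x : P => f x) hmul
    have hφS : ∀ x : P, φ x ∈ S := fun x => hfS x x.2
    refine ⟨φ, (h.2 P hP φ hφS).2 ⟨g, fun x => ?_⟩, fun x hx => rfl⟩
    rw [← tx_apply ι (hφS x), ← tx_apply ι (hP x.2)]
    exact hg x x.2

/-- Conjugation by an element of `G` that maps `ι(P)` into `ι(S)` is a map of the system. -/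
theorem exists_mp_conj (h : F.IsRealizedBy ι) (hP : P ≤ S) (g : G)
    (hg : ∀ x ∈ P, g * tx ι x * g⁻¹ ∈ ι.range) :
    ∃ f : Ω → Ω, Mp F P f ∧ ∀ x ∈ P, tx ι (f x) = g * tx ι x * g⁻¹ := by
  classical
  choose! s hs using hg
  have h1 : ∀ x ∈ P, tx ι (s x) = g * tx ι x * g⁻¹ := fun x hx => by
    rw [tx_coe]; exact hs x hx
  exact ⟨fun x => s x, (mp_iff_realized h).2 ⟨hP, fun x _ => (s x).2, g, h1⟩, h1⟩

/-- Function form of "realized". -/
theorem isRealizedBy_of_mp (hinj : Function.Injective ι)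
    (h : ∀ (P : Subgroup Ω) (f : Ω → Ω), P ≤ S → (∀ x ∈ P, f x ∈ S) →
      (∀ x ∈ P, ∀ y ∈ P, f (x * y) = f x * f y) →
      (Mp F P f ↔ ∃ g : G, ∀ x ∈ P, tx ι (f x) = g * tx ι x * g⁻¹)) : F.IsRealizedBy ι := by
  refine ⟨hinj, fun P hP φ hφ => ?_⟩
  have h1 := h P (ex φ) hP (fun x hx => by rw [ex_apply _ hx]; exact hφ _)
    (fun x hx y hy => by
      rw [ex_apply _ hx, ex_apply _ hy, ex_apply _ (mul_mem hx hy), ← map_mul]; rfl)
  constructor
  · intro hφF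
    obtain ⟨g, hg⟩ := h1.1 (mp_ex hφF)
    refine ⟨g, fun x => ?_⟩
    have h2 := hg x x.2
    rw [ex_coe, tx_apply ι (hφ x), tx_apply ι (hP x.2)] at h2
    exact h2
  · rintro ⟨g, hg⟩
    refine (h1.2 ⟨g, fun x hx => ?_⟩).mem_hom fun x hx => (ex_apply _ hx).symm
    rw [ex_apply _ hx, tx_apply ι (hφ ⟨x, hx⟩), tx_apply ι (hP hx)]
    exact hg ⟨x, hx⟩

/-- The maps of the fusion system of a group. -/
theorem mp_group_iff {T P : Subgroup G} {f : G → G} : Mp (groupFusionSystem T) P f ↔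
    P ≤ T ∧ (∀ x ∈ P, f x ∈ T) ∧ ∃ g : G, ∀ x ∈ P, f x = g * x * g⁻¹ := by
  constructor
  · rintro ⟨φ, ⟨hP, hφ, g, hg⟩, h1⟩
    refine ⟨hP, fun x hx => ?_, g, fun x hx => ?_⟩
    · rw [← h1 x hx]; exact hφ _
    · rw [← h1 x hx]; exact hg _
  · rintro ⟨hP, hf, g, hg⟩
    refine ⟨conjHom P g, ⟨hP, fun x => ?_, g, fun x => rfl⟩, fun x hx => (hg x hx).symm⟩
    show g * (x : G) * g⁻¹ ∈ T
    rw [← hg x x.2]
    exact hf x x.2

end realized

end Cfsg.Agent.H876.FC
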