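import Cfsg.Agent.H876.FC.Basic

/-!
# Composition of a factor system with a realization; `F` realizable implies `F/A` realizable (helper876)

* `isFactorSystem_of_mp` : constructor for `IsFactorSystem` in function form;
* `factor_comp` : `F/A` realized by `ι` : then `F_{ι(S')}(G)` is the factor system of `F` modulo `A` through `ι ∘ θ`;
* `realized_of_factor_bot` : the case `A = 1`;
* `realizable_factor` : `F` realizable implies `F/A` realizable for `A` central.
-/

set_option autoImplicit false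

universe u v w

namespace Cfsg.Agent.H876.FC

open Cfsg Cfsg.FusionSystem Cfsg.Agent.H752 Cfsg.Agent.H760

section comp

variable {Ω : Type*} [Group Ω] {S : Subgroup Ω} {F : FusionSystem S} {A P : Subgroup Ω} {f : Ω → Ω}
variable {Ω' : Type*} [Group Ω'] {S' : Subgroup Ω'} {E : FusionSystem S'} {θ : S →* Ω'}
variable {G : Type*} [Group G]

/-- Function form of "factor system". -/
theorem isFactorSystem_of_mp (hAS : A ≤ S) (hker : ∀ s : S, θ s = 1 ↔ (s : Ω) ∈ A)
    (hrange : θ.range = S')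
    (h : ∀ (P' : Subgroup Ω') (f' : Ω' → Ω'), P' ≤ S' → (Mp E P' f' ↔
      ∃ f, Mp F (preimageAlong θ P') f ∧ ∀ x ∈ preimageAlong θ P', f' (tx θ x) = tx θ (f x))) :
    F.IsFactorSystem A θ E := by
  refine ⟨hAS, hker, hrange, fun P' φ' => ⟨fun hφ' => ?_, ?_⟩⟩
  · have hP' : P' ≤ S' := (E.le_of_mem hφ').1
    obtain ⟨f, ⟨φ, hφ, h1⟩, h2⟩ := (h P' (ex φ') hP').1 (mp_ex hφ')
    have hφS := (F.le_of_mem hφ).2
    have hx : ∀ x : preimageAlong θ P', θ ⟨x, H759.preimageAlong_le x.2⟩ ∈ P' := by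
      intro x
      rw [← tx_apply θ]
      exact (mem_pre_iff.1 x.2).2
    refine ⟨hP', φ, hφ, H759.preimageAlong_le, hφS, hx, fun x => ?_⟩
    have h3 := h2 x x.2
    rw [← h1 x x.2] at h3
    rw [← tx_apply θ (hφS x)]
    rw [tx_apply θ (H759.preimageAlong_le x.2), ex_apply _ (hx x)] at h3
    exact h3
  · rintro ⟨hP', φ, hφ, h1, h2, h3, h4⟩
    refine ((h P' (ex φ') hP').2 ⟨ex φ, mp_ex hφ, fun x hx => ?_⟩).mem_hom
      fun x hx => (ex_apply _ hx).symm
    rw [ex_apply _ hx, tx_apply θ (h2 ⟨x, hx⟩), ← h4 ⟨x, hx⟩, tx_apply θ (h1 hx),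
      ex_apply _ (h3 ⟨x, hx⟩)]

/-- The homomorphism `ι ∘ θ`. -/
def cmp (θ : S →* Ω') (h : ∀ s, θ s ∈ S') (ι : S' →* G) : S →* G := ι.comp (θ.codRestrict S' h)

theorem tx_cmp (h : ∀ s, θ s ∈ S') (ι : S' →* G) {x : Ω} (hx : x ∈ S) :
    tx (cmp θ h ι) x = tx ι (tx θ x) := by
  rw [tx_apply _ hx, tx_apply θ hx, tx_apply ι (h ⟨x, hx⟩)]
  rfl

theorem pre_cmp (h : ∀ s, θ s ∈ S') (ι : S' →* G) (P'' : Subgroup G) :
    preimageAlong (cmp θ h ι) P'' = preimageAlong θ (preimageAlong ι P'') := by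
  ext x
  rw [mem_pre_iff, mem_pre_iff, mem_pre_iff]
  constructor
  · rintro ⟨hx, h1⟩
    rw [tx_cmp h ι hx] at h1
    refine ⟨hx, ?_, h1⟩
    rw [tx_apply θ hx]
    exact h _
  · rintro ⟨hx, -, h1⟩
    rw [tx_cmp h ι hx]
    exact ⟨hx, h1⟩

theorem factor_mem (hE : F.IsFactorSystem A θ E) (s : S) : θ s ∈ S' := by
  rw [← hE.2.2.1]
  exact ⟨s, rfl⟩

/-- The factor system read in the group that realizes it. -/
theorem factor_comp (hA : F.StronglyClosed A) (hE : F.IsFactorSystem A θ E) {ι : S' →* G}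
    (h : E.IsRealizedBy ι) :
    F.IsFactorSystem A (cmp θ (factor_mem hE) ι) (groupFusionSystem ι.range) := by
  set hm := factor_mem hE
  have hrange : (cmp θ hm ι).range = ι.range := by
    ext y
    constructor
    · rintro ⟨s, rfl⟩
      exact ⟨⟨θ s, hm s⟩, rfl⟩
    · rintro ⟨⟨y, hy⟩, rfl⟩
      have hy' := hy
      rw [← hE.2.2.1] at hy'
      obtain ⟨s, rfl⟩ := hy'
      exact ⟨s, rfl⟩
  refine isFactorSystem_of_mp hE.1 (fun s => ?_) hrange fun P'' f'' hP'' => ?_
  · rw [← hE.2.1 s]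
    constructor
    · intro hs
      have h1 : ι ⟨θ s, hm s⟩ = 1 := hs
      have h2 := (injective_iff_map_eq_one ι).1 h.1 _ h1
      exact congrArg Subtype.val h2
    · intro hs
      have h1 : (⟨θ s, hm s⟩ : S') = 1 := Subtype.ext hs
      show ι ⟨θ s, hm s⟩ = 1
      rw [h1, map_one]
  · have hpS : preimageAlong ι P'' ≤ S' := H759.preimageAlong_le
    have hpre := pre_cmp hm ι P''
    rw [mp_group_iff]
    constructor
    · rintro ⟨-, hf'', g, hg⟩
      obtain ⟨f', hf', h1⟩ := exists_mp_conj h hpS g (fun y hy => by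
        have hy' : tx ι y ∈ P'' := (mem_pre_iff.1 hy).2
        rw [← hg _ hy']
        exact hf'' _ hy')
      obtain ⟨-, f, hf, h2⟩ := (mp_factor_iff hA hE).1 hf'
      rw [hpre]
      refine ⟨f, hf, fun x hx => ?_⟩
      have hxS : x ∈ S := (mem_pre_iff.1 hx).1
      have hx' : tx θ x ∈ preimageAlong ι P'' := (mem_pre_iff.1 hx).2
      rw [tx_cmp hm ι hxS, tx_cmp hm ι (hf.mem hx), hg _ (mem_pre_iff.1 hx').2, ← h1 _ hx', h2 x hx]
    · rintro ⟨f, hf, h1⟩
      rw [hpre] at hf h1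
      obtain ⟨f', hf', h2⟩ := mp_descend hA hE hf hpS le_rfl
      obtain ⟨-, -, g, hg⟩ := (mp_iff_realized h).1 hf'
      have hsur : ∀ z ∈ P'', ∃ x, ∃ hx : x ∈ preimageAlong θ (preimageAlong ι P''),
          tx (cmp θ hm ι) x = z := by
        intro z hz
        have hz' := hP'' hz
        rw [← hrange] at hz'
        obtain ⟨s, rfl⟩ := hz'
        refine ⟨s, ?_, tx_coe _ s⟩
        rw [← hpre]
        exact mem_pre_iff.2 ⟨s.2, by rw [tx_coe]; exact hz⟩
      refine ⟨hP'', fun z hz => ?_, g, fun z hz => ?_⟩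
      · obtain ⟨x, hx, rfl⟩ := hsur z hz
        rw [h1 x hx, ← hrange]
        exact tx_mem_range _
      · obtain ⟨x, hx, rfl⟩ := hsur z hz
        have hxS : x ∈ S := (mem_pre_iff.1 hx).1
        rw [h1 x hx, tx_cmp hm ι (hf.mem hx), ← h2 x hx, hg _ (mem_pre_iff.1 hx).2,
          tx_cmp hm ι hxS]

/-- The case `A = 1`: `θ` is an isomorphism. -/
theorem realized_of_factor_bot (hA : F.StronglyClosed ⊥) (hE : F.IsFactorSystem ⊥ θ E) {ι : S' →* G}
    (h : E.IsRealizedBy ι) : F.IsRealizedBy (cmp θ (factor_mem hE) ι) := by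
  set hm := factor_mem hE
  have hinj : Function.Injective (cmp θ hm ι) := by
    rw [injective_iff_map_eq_one]
    intro s hs
    have h1 : ι ⟨θ s, hm s⟩ = 1 := hs
    have h2 := (injective_iff_map_eq_one ι).1 h.1 _ h1
    have h3 : θ s = 1 := congrArg Subtype.val h2
    exact Subtype.ext (Subgroup.mem_bot.1 ((hE.2.1 s).1 h3))
  refine isRealizedBy_of_mp hinj fun P f hP hf _ => ?_
  have hpre : preimageAlong θ (imageAlong θ P) = P := by
    rw [pre_image_eq hE.2.1 bot_le hP (hP.trans (H759.StronglyClosed.le_normalizer hA)), sup_bot_eq]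
  have him : imageAlong θ P ≤ S' := image_le hE P
  constructor
  · intro hFf
    obtain ⟨f', hf', h2⟩ := mp_descend hA hE hFf him hpre.le
    obtain ⟨-, -, g, hg⟩ := (mp_iff_realized h).1 hf'
    refine ⟨g, fun x hx => ?_⟩
    rw [tx_cmp hm ι (hf x hx), tx_cmp hm ι (hP hx), ← h2 x (by rw [hpre]; exact hx),
      hg _ (mem_image_of_mem hx (hP hx))]
  · rintro ⟨g, hg⟩
    obtain ⟨f', hf', h1⟩ := exists_mp_conj h him g (fun y hy => by
      obtain ⟨x, hx, hxS, rfl⟩ := mem_image_iff.1 hy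
      rw [← tx_cmp hm ι hxS, ← hg x hx, tx_cmp hm ι (hf x hx)]
      exact tx_mem_range _)
    obtain ⟨-, f₀, hf₀, h2⟩ := (mp_factor_iff hA hE).1 hf'
    rw [hpre] at hf₀ h2
    refine hf₀.congr fun x hx => ?_
    have h3 : tx (cmp θ hm ι) (f x) = tx (cmp θ hm ι) (f₀ x) := by
      rw [hg x hx, tx_cmp hm ι (hf₀.mem hx), ← h2 x hx, h1 _ (mem_image_of_mem hx (hP hx)),
        tx_cmp hm ι (hP hx)]
    rw [tx_apply _ (hf x hx), tx_apply _ (hf₀.mem hx)] at h3
    exact congrArg Subtype.val (hinj h3)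

end comp

section easy

variable {Ω : Type u} [Group Ω] {S : Subgroup Ω} {F : FusionSystem S} {A P : Subgroup Ω} {f : Ω → Ω}
variable {Ω' : Type v} [Group Ω'] {S' : Subgroup Ω'} {E : FusionSystem S'} {θ : S →* Ω'}

/-- The abstract form of the easy direction: `C` a group, `j : S →* C` and `q : C →* K` with kernel `j(A)`, such that the maps
of `F` on sources containing `A` are exactly those induced by elements of `C`. -/
theorem realized_factor_of {C : Type*} [Group C] {K : Type*} [Group K] (q : C →* K)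
    (hq : Function.Surjective q) (j : S →* C)
    (hker : ∀ s : S, q (j s) = 1 ↔ (s : Ω) ∈ A)
    (hkerj : ∀ c : C, q c = 1 → ∃ s : S, j s = c)
    (hAF : F.StronglyClosed A)
    (hmaps : ∀ (P : Subgroup Ω) (f : Ω → Ω), A ≤ P → P ≤ S → (∀ x ∈ P, f x ∈ S) →
      (Mp F P f ↔ ∃ c : C, ∀ x ∈ P, tx j (f x) = c * tx j x * c⁻¹))
    (hE : F.IsFactorSystem A θ E) :
    ∃ ι' : S' →* K, E.IsRealizedBy ι' ∧ ι'.range = (q.comp j).range ∧
      ∀ x ∈ S, tx ι' (tx θ x) = q (tx j x) := by
  obtain ⟨hE1, hE2, hE3, hE4⟩ := id hE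
  subst hE3
  have hsurj : Function.Surjective θ.rangeRestrict := θ.rangeRestrict_surjective
  have hk : θ.rangeRestrict.ker ≤ (q.comp j).ker := by
    intro s hs
    rw [MonoidHom.mem_ker] at hs ⊢
    have h1 : θ s = 1 := congrArg Subtype.val hs
    exact (hker s).2 ((hE2 s).1 h1)
  set ι' : θ.range →* K := θ.rangeRestrict.liftOfSurjective hsurj ⟨q.comp j, hk⟩ with hι'
  have hval : ∀ s : S, ι' (θ.rangeRestrict s) = q (j s) := by
    intro s
    exact MonoidHom.liftOfRightInverse_comp_apply _ _ _ ⟨q.comp j, hk⟩ s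
  have hval' : ∀ x ∈ S, tx ι' (tx θ x) = q (tx j x) := by
    intro x hx
    rw [tx_apply j hx, ← hval ⟨x, hx⟩, tx_apply θ hx]
    exact tx_apply ι' (x := θ ⟨x, hx⟩) ⟨⟨x, hx⟩, rfl⟩
  refine ⟨ι', ?_, ?_, hval'⟩
  · refine isRealizedBy_of_mp ?_ fun P' f' hP' hf' _ => ?_
    · rw [injective_iff_map_eq_one]
      rintro ⟨_, s, rfl⟩ hs
      have h1 : q (j s) = 1 := by rw [← hval s]; exact hs
      exact Subtype.ext ((hE2 s).2 ((hker s).1 h1))
    · have hAP : A ≤ preimageAlong θ P' := fun a ha => mem_pre_of_mem hE ha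
      have hPS : preimageAlong θ P' ≤ S := H759.preimageAlong_le
      constructor
      · intro hE'
        obtain ⟨-, f, hf, h1⟩ := (mp_factor_iff hAF hE).1 hE'
        obtain ⟨c, hc⟩ := (hmaps _ f hAP hPS fun x hx => hf.mem hx).1 hf
        refine ⟨q c, fun y hy => ?_⟩
        obtain ⟨x, hx, rfl⟩ := exists_tx hE (hP' hy)
        have hx' : x ∈ preimageAlong θ P' := mem_pre_iff.2 ⟨hx, hy⟩
        rw [h1 x hx', hval' _ (hf.mem hx'), hval' _ hx, hc x hx', map_mul, map_mul, map_inv]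
      · rintro ⟨k, hk⟩
        obtain ⟨c, rfl⟩ := hq k
        have hex : ∀ x ∈ preimageAlong θ P', ∃ y : S, j y = c * tx j x * c⁻¹ := by
          intro x hx
          obtain ⟨hxS, hx'⟩ := mem_pre_iff.1 hx
          obtain ⟨y, hyS, hy⟩ := exists_tx hE (hf' _ hx')
          have h1 := hk _ hx'
          rw [← hy, hval' y hyS, hval' x hxS] at h1
          have h2 : q ((tx j y)⁻¹ * (c * tx j x * c⁻¹)) = 1 := by
            rw [map_mul, map_inv, h1, map_mul, map_mul, map_inv]
            group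
          obtain ⟨s, hs⟩ := hkerj _ h2
          refine ⟨⟨y, hyS⟩ * s, ?_⟩
          rw [map_mul, hs, ← tx_apply j hyS]
          group
        choose! m hm using hex
        have hmm : Mp F (preimageAlong θ P') (fun x => (m x : Ω)) :=
          (hmaps _ _ hAP hPS fun x hx => (m x).2).2 ⟨c, fun x hx => by
            rw [tx_coe]; exact hm x hx⟩
        refine (mp_factor_iff hAF hE).2 ⟨hP', _, hmm, fun x hx => ?_⟩
        obtain ⟨hxS, hx'⟩ := mem_pre_iff.1 hx
        have h1 := hk _ hx'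
        rw [hval' x hxS] at h1
        have h2 : tx ι' (f' (tx θ x)) = tx ι' (tx θ (m x)) := by
          rw [h1, hval' _ (m x).2, tx_coe, hm x hx, map_mul, map_mul, map_inv]
        have h3 : f' (tx θ x) ∈ θ.range := hf' _ hx'
        have h4 : tx θ (m x) ∈ θ.range := tx_mem_range _
        obtain ⟨s, hs⟩ := h3
        obtain ⟨t, ht⟩ := h4
        rw [← hs, ← ht] at h2 ⊢
        have h5 : q (j s) = q (j t) := by
          have h6 := hval' s s.2
          have h7 := hval' t t.2
          rw [tx_coe, tx_coe] at h6 h7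
          rw [← h6, ← h7]
          exact h2
        have h8 : q (j (s⁻¹ * t)) = 1 := by
          rw [map_mul, map_mul, map_inv, map_inv, h5, inv_mul_cancel]
        have h9 := (hE2 _).2 ((hker _).1 h8)
        rw [map_mul, map_inv, inv_mul_eq_one] at h9
        exact h9
  · ext y
    constructor
    · rintro ⟨⟨_, s, rfl⟩, rfl⟩
      exact ⟨s, (hval s).symm⟩
    · rintro ⟨s, rfl⟩
      exact ⟨_, hval s⟩

/-- **The easy direction**: `F` realizable implies `F/A` realizable, `A` central. -/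
theorem realizable_factor {p : ℕ} [Fact p.Prime] (hA : F.IsCentral A)
    (hE : F.IsFactorSystem A θ E) (h : F.IsRealizable p) : E.IsRealizable p := by
  obtain ⟨G, _, _, ι, h, T, hT⟩ := h
  have hAS := hA.1
  set Z : Subgroup G := (A.subgroupOf S).map ι with hZ
  set C : Subgroup G := Subgroup.centralizer (Z : Set G) with hC
  have hmemZ : ∀ z, z ∈ Z ↔ ∃ a ∈ A, tx ι a = z := by
    intro z
    constructor
    · rintro ⟨a, ha, rfl⟩
      exact ⟨a, ha, tx_coe ι a⟩
    · rintro ⟨a, ha, rfl⟩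
      exact ⟨⟨a, hAS ha⟩, ha, (tx_apply ι (hAS ha)).symm⟩
  have hrC : ∀ s : S, ι s ∈ C := by
    intro s
    rw [hC, Subgroup.mem_centralizer_iff]
    intro z hz
    obtain ⟨a, ha, rfl⟩ := (hmemZ z).1 hz
    rw [tx_apply ι (hAS ha), ← map_mul, ← map_mul]
    congr 1
    exact Subtype.ext (central_comm hA ha s.2).symm
  have hrangeC : ι.range ≤ C := by
    rintro _ ⟨s, rfl⟩
    exact hrC s
  have hZC : Z ≤ C := by
    rintro _ ⟨a, -, rfl⟩
    exact hrC a
  set Z' : Subgroup C := Z.subgroupOf C with hZ'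
  have hZn : Z'.Normal := by
    refine ⟨fun n hn g => ?_⟩
    have h1 : (g : G) * n = n * g := ((Subgroup.mem_centralizer_iff.1 g.2) n hn).symm
    have h2 : g * n * g⁻¹ = n := by
      apply Subtype.ext
      show (g : G) * n * (g : G)⁻¹ = n
      rw [h1, mul_inv_cancel_right]
    rw [h2]
    exact hn
  let j : S →* C := ι.codRestrict C hrC
  have hj : ∀ x, ((tx j x : C) : G) = tx ι x := by
    intro x
    by_cases hx : x ∈ S
    · rw [tx_apply j hx, tx_apply ι hx]; rfl
    · have h1 : tx j x = 1 := by unfold tx; exact dif_neg hx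
      have h2 : tx ι x = 1 := by unfold tx; exact dif_neg hx
      rw [h1, h2]; rfl
  have hAF := central_stronglyClosed hA
  obtain ⟨ι', h1, h2, -⟩ := realized_factor_of (F := F) (A := A) (E := E) (θ := θ)
    (QuotientGroup.mk' Z') (QuotientGroup.mk'_surjective Z') j
    (fun s => by
      rw [show ((QuotientGroup.mk' Z') (j s) = 1 ↔ j s ∈ Z') from QuotientGroup.eq_one_iff _]
      show ι s ∈ Z ↔ _
      rw [hmemZ]
      constructor
      · rintro ⟨a, ha, h1⟩
        have h2 : tx ι a = tx ι s := by rw [tx_coe]; exact h1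
        rw [← tx_inj h (hAS ha) s.2 h2]
        exact ha
      · intro hs
        exact ⟨s, hs, tx_coe ι s⟩)
    (fun c hc => by
      have h1 : c ∈ Z' := (QuotientGroup.eq_one_iff _).1 hc
      obtain ⟨a, ha, h2⟩ := (hmemZ _).1 h1
      refine ⟨⟨a, hAS ha⟩, Subtype.ext ?_⟩
      show ι ⟨a, hAS ha⟩ = c
      rw [← tx_apply ι (hAS ha)]
      exact h2)
    hAF
    (fun P f hAP hPS hf => by
      rw [mp_iff_realized h]
      constructor
      · rintro ⟨-, -, g, hg⟩
        have hfF : Mp F P f := (mp_iff_realized h).2 ⟨hPS, hf, g, hg⟩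
        have hgC : g ∈ C := by
          rw [hC, Subgroup.mem_centralizer_iff]
          intro z hz
          obtain ⟨a, ha, rfl⟩ := (hmemZ z).1 hz
          have h1 := hg a (hAP ha)
          rw [mp_fix hA hfF ha (hAP ha)] at h1
          calc tx ι a * g = g * tx ι a * g⁻¹ * g := by rw [← h1]
            _ = g * tx ι a := by group
        refine ⟨⟨g, hgC⟩, fun x hx => Subtype.ext ?_⟩
        rw [hj]
        show _ = g * ((tx j x : C) : G) * g⁻¹
        rw [hj]
        exact hg x hx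
      · rintro ⟨c, hc⟩
        refine ⟨hPS, hf, c, fun x hx => ?_⟩
        have h1 := congrArg Subtype.val (hc x hx)
        rw [hj] at h1
        rw [h1]
        show (c : G) * ((tx j x : C) : G) * (c : G)⁻¹ = _
        rw [hj])
    hE
  -- the Sylow subgroup
  have hTC : (T : Subgroup G) ≤ C := by rw [hT]; exact hrangeC
  let T₁ : Sylow p C := T.subtype hTC
  have hT₁ : (T₁ : Subgroup C) = j.range := by
    ext c
    constructor
    · intro hc
      have h3 : (c : G) ∈ (T : Subgroup G) := hc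
      rw [hT] at h3
      obtain ⟨s, hs⟩ := h3
      exact ⟨s, Subtype.ext hs⟩
    · rintro ⟨s, rfl⟩
      show ι s ∈ (T : Subgroup G)
      rw [hT]
      exact ⟨s, rfl⟩
  let T₂ : Sylow p (C ⧸ Z') := T₁.mapSurjective (QuotientGroup.mk'_surjective Z')
  refine H781.isRealizable_of_isRealizedBy h1 T₂ ?_
  rw [h2, MonoidHom.range_comp, ← hT₁]
  rfl

end easy

end Cfsg.Agent.H876.FC
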