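import Cfsg.Agent.H876.FC.Easy

/-!
# The frame of "`F` exotic iff `F/A` exotic" (helper876)

`Core p` is the hard direction for `|A| = p` and `F/A` the fusion system of a finite group `G` on a Sylow `p`-subgroup `T`.
`frame` : `Core` implies the statement of S5242.
-/

set_option autoImplicit false

universe u v

namespace Cfsg.Agent.H876.FC

open Cfsg Cfsg.FusionSystem Cfsg.Agent.H752 Cfsg.Agent.H760

/-- The hard direction for a central subgroup of order `p` and a factor system which is the fusion system of a finite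
group. -/
def Core (p : ℕ) : Prop :=
  ∀ {Ω : Type u} [Group Ω] {S : Subgroup Ω} [Finite S], IsPGroup p S → ∀ (F : FusionSystem S),
    F.IsSaturated p → ∀ A : Subgroup Ω, F.IsCentral A → Nat.card A = p →
    ∀ {G : Type u} [Group G] [Finite G] (T : Sylow p G) (θ : S →* G),
      F.IsFactorSystem A θ (groupFusionSystem (T : Subgroup G)) → F.IsRealizable p

theorem range_cmp {Ω : Type*} [Group Ω] {S : Subgroup Ω} {Ω' : Type*} [Group Ω'] {S' : Subgroup Ω'}
    {G : Type*} [Group G] {θ : S →* Ω'} (hr : θ.range = S') (h : ∀ s, θ s ∈ S') (ι : S' →* G) :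
    (cmp θ h ι).range = ι.range := by
  ext y
  constructor
  · rintro ⟨s, rfl⟩
    exact ⟨⟨θ s, h s⟩, rfl⟩
  · rintro ⟨⟨y, hy⟩, rfl⟩
    have hy' := hy
    rw [← hr] at hy'
    obtain ⟨s, rfl⟩ := hy'
    exact ⟨s, rfl⟩

theorem finite_of_le {Ω : Type*} [Group Ω] {A S : Subgroup Ω} [Finite S] (h : A ≤ S) : Finite A :=
  Finite.of_injective _ (Subgroup.inclusion_injective h)

/-- The hard direction for all `A`, by induction on `|A|`. -/
theorem realizable_of_factor {p : ℕ} [hp : Fact p.Prime] (core : Core.{u} p) (n : ℕ) :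
    ∀ {Ω : Type u} [Group Ω] {S : Subgroup Ω} [Finite S], IsPGroup p S → ∀ (F : FusionSystem S),
    F.IsSaturated p → ∀ A : Subgroup Ω, F.IsCentral A → Nat.card A = n →
    ∀ {Ω' : Type v} [Group Ω'] {S' : Subgroup Ω'} (θ : S →* Ω') (E : FusionSystem S'),
      F.IsFactorSystem A θ E → E.IsRealizable p → F.IsRealizable p := by
  induction n using Nat.strong_induction_on with
  | _ n ih =>
  intro Ω _ S _ hS F hF A hA hn Ω' _ S' θ E hE hEr
  have hAS := hA.1
  have hfA : Finite A := finite_of_le hAS
  by_cases hbot : A = ⊥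
  · subst hbot
    obtain ⟨G, _, _, ι, h, T, hT⟩ := hEr
    have hSC := central_stronglyClosed hA
    refine H781.isRealizable_of_isRealizedBy (realized_of_factor_bot hSC hE h) T ?_
    rw [range_cmp hE.2.2.1, hT]
  · -- a subgroup of order `p`
    have hAp : IsPGroup p A := hS.to_le hAS
    have hdvd : p ∣ Nat.card A := by
      obtain ⟨k, hk⟩ := IsPGroup.iff_card.1 hAp
      have hk0 : k ≠ 0 := by
        rintro rfl
        rw [pow_zero] at hk
        exact hbot (Subgroup.card_eq_one.1 hk)
      rw [hk]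
      exact dvd_pow_self p hk0
    obtain ⟨a, ha⟩ := exists_prime_orderOf_dvd_card' p hdvd
    have ha' : orderOf (a : Ω) = p := by rw [Subgroup.orderOf_coe]; exact ha
    set B : Subgroup Ω := Subgroup.zpowers (a : Ω) with hB
    have hBcard : Nat.card B = p := by rw [hB, Nat.card_zpowers, ha']
    have hBA : B ≤ A := by
      rw [hB, Subgroup.zpowers_le]
      exact a.2
    have hBF : F.IsCentral B := central_mono hA hBA
    have hBSC := central_stronglyClosed hBF
    have hASC := central_stronglyClosed hA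
    have hBn : (B.subgroupOf S).Normal := by
      refine ⟨fun x hx g => ?_⟩
      have h1 : (g : Ω) * x = x * g := central_comm hBF hx g.2
      have h2 : g * x * g⁻¹ = x := by
        apply Subtype.ext
        show (g : Ω) * x * (g : Ω)⁻¹ = x
        rw [h1, mul_inv_cancel_right]
      rw [h2]
      exact hx
    let θ₁ : S →* S ⧸ (B.subgroupOf S) := QuotientGroup.mk' (B.subgroupOf S)
    have hker₁ : ∀ s : S, θ₁ s = 1 ↔ (s : Ω) ∈ B := by
      intro s
      exact QuotientGroup.eq_one_iff s
    obtain ⟨F₁, hF₁⟩ := H759.exists_factorSystem hBSC hker₁ rfl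
    have hF₁s : F₁.IsSaturated p := H759.isSaturated_factor hS hF hBSC hF₁
    have hS₁ : IsPGroup p θ₁.range := hS.of_surjective θ₁.rangeRestrict θ₁.rangeRestrict_surjective
    have hA₁ : F₁.IsCentral (imageAlong θ₁ A) := central_image hBSC hA hF₁
    obtain ⟨θ', -, hE₁⟩ := factor_factor hBSC hBA hASC hF₁ hE
    have hlt : Nat.card (imageAlong θ₁ A) < n := by
      rw [← hn]
      let g : A → imageAlong θ₁ A := fun x => ⟨tx θ₁ x, mem_image_of_mem x.2 (hAS x.2)⟩
      have hfI : Finite (imageAlong θ₁ A) := finite_of_le (image_le hF₁ A)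
      have hfin := Fintype.ofFinite A
      have hfin' := Fintype.ofFinite (imageAlong θ₁ A)
      rw [Nat.card_eq_fintype_card, Nat.card_eq_fintype_card]
      refine Fintype.card_lt_of_surjective_not_injective g ?_ ?_
      · rintro ⟨y, hy⟩
        obtain ⟨x, hx, -, h1⟩ := mem_image_iff.1 hy
        exact ⟨⟨x, hx⟩, Subtype.ext h1⟩
      · intro hinj
        have h1 : g a = g 1 := by
          apply Subtype.ext
          show tx θ₁ (a : Ω) = tx θ₁ ((1 : A) : Ω)
          rw [tx_eq_iff hker₁ (hAS a.2) (hAS (1 : A).2)]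
          show (a : Ω)⁻¹ * 1 ∈ B
          rw [mul_one]
          exact inv_mem (Subgroup.mem_zpowers _)
        have h2 := hinj h1
        rw [h2, orderOf_one] at ha
        exact hp.out.one_lt.ne ha
    obtain ⟨G, _, _, ι, h, T, hT⟩ := ih _ hlt hS₁ F₁ hF₁s _ hA₁ rfl θ' E hE₁ hEr
    have h1 := factor_comp hBSC hF₁ h
    rw [← hT] at h1
    exact core hS F hF B hBF hBcard T _ h1

/-- **The frame**: the core gives the statement of S5242. -/
theorem frame {Ω : Type u} [Group Ω] {S : Subgroup Ω} [Finite S] (p : ℕ) [Fact p.Prime]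
    (core : Core.{u} p) (hS : IsPGroup p S)
    (F : Cfsg.FusionSystem S) (hF : F.IsSaturated p) (A : Subgroup Ω) (hA : F.IsCentral A)
    {Ω' : Type v} [Group Ω'] {S' : Subgroup Ω'} [Finite S'] (θ : ↥S →* Ω')
    (E : Cfsg.FusionSystem S') (hE : F.IsFactorSystem A θ E) : F.IsExotic p ↔ E.IsExotic p := by
  constructor
  · rintro ⟨-, h⟩
    exact ⟨H759.isSaturated_factor hS hF (central_stronglyClosed hA) hE, fun hEr =>
      h (realizable_of_factor core _ hS F hF A hA rfl θ E hE hEr)⟩
  · rintro ⟨-, h⟩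
    exact ⟨hF, fun hFr => h (realizable_factor hA hE hFr)⟩

end Cfsg.Agent.H876.FC
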