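import Cfsg.Agent.H876.FC.Frame
import Cfsg.Agent.H497.FX.ExtF

/-!
# S5242 from the uniqueness theorem inside one group (helper876)

`U p` : a saturated system `F` on a Sylow `p`-subgroup `T` of a finite group `L` with a central subgroup `A` of order `p`,
`A ≤ Z(L)`, such that `F/A` is the fusion system of `L/A`, is realized by some `i : T →* L` with image `T`.

`core_of_U` : `U` implies `Core` (with helper497's EXT). `exotic_iff` : `U` implies the statement of S5242.
-/

set_option autoImplicit false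

universe u v

namespace Cfsg.Agent.H876.FC

open Cfsg Cfsg.FusionSystem Cfsg.Agent.H752 Cfsg.Agent.H760

/-- The uniqueness theorem inside one group. -/
def U (p : ℕ) : Prop :=
  ∀ {L G : Type u} [Group L] [Finite L] [Group G] [Finite G] (q : L →* G), Function.Surjective q →
    ∀ A : Subgroup L, q.ker = A → A ≤ Subgroup.center L → Nat.card A = p →
    ∀ T : Sylow p L, A ≤ (T : Subgroup L) → ∀ F : FusionSystem (T : Subgroup L), F.IsSaturated p →
      F.IsCentral A →
      F.IsFactorSystem A (q.comp (T : Subgroup L).subtype)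
        (groupFusionSystem ((T : Subgroup L).map q)) →
      ∃ i : (T : Subgroup L) →* L, F.IsRealizedBy i ∧ i.range = (T : Subgroup L)

theorem core_of_U {p : ℕ} [Fact p.Prime] (hU : U.{u} p) : Core.{u} p := by
  intro Ω _ S _ hS F hF A hA hcard G _ _ T θ hE
  obtain ⟨L, _, _, q, j, hq, hj, hqj, hker, hcen, hidx⟩ :=
    H497.FX.exists_ext_fusion hS hA T θ hE
  have hjp : IsPGroup p j.range := hS.of_surjective j.rangeRestrict j.rangeRestrict_surjective
  obtain ⟨R, hR⟩ : ∃ R : Sylow p L, (R : Subgroup L) = j.range := ⟨hjp.toSylow hidx, rfl⟩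
  have hAS := hA.1
  have hASC := central_stronglyClosed hA
  have hbot : F.StronglyClosed ⊥ := H759.StronglyClosed.bot
  have hkerj : ∀ s : S, j s = 1 ↔ (s : Ω) ∈ (⊥ : Subgroup Ω) := by
    intro s
    rw [Subgroup.mem_bot]
    constructor
    · intro h
      exact congrArg Subtype.val ((injective_iff_map_eq_one j).1 hj s h)
    · intro h
      rw [show s = 1 from Subtype.ext h, map_one]
  obtain ⟨F₁, hF₁⟩ := H759.exists_factorSystem (S' := (R : Subgroup L)) hbot hkerj hR.symm
  have hF₁s : F₁.IsSaturated p := H759.isSaturated_factor hS hF hbot hF₁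
  have hA₁ : F₁.IsCentral (imageAlong j A) := central_image hbot hA hF₁
  obtain ⟨θ', hθ', hE₁⟩ := factor_factor hbot bot_le hASC hF₁ hE
  have hθ : θ' = q.comp (R : Subgroup L).subtype := by
    ext y
    obtain ⟨x, hx, hxy⟩ := exists_tx hF₁ y.2
    have h1 := hθ' x hx
    rw [hxy, tx_coe, tx_apply θ hx, ← hqj, ← tx_apply j hx, hxy] at h1
    exact h1
  have hT : (T : Subgroup G) = (R : Subgroup L).map q := by
    rw [← hE.2.2.1, hR]
    ext y
    constructor
    · rintro ⟨s, rfl⟩
      exact ⟨j s, ⟨s, rfl⟩, hqj s⟩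
    · rintro ⟨_, ⟨s, rfl⟩, rfl⟩
      exact ⟨s, (hqj s).symm⟩
  have hkerA : q.ker = imageAlong j A := by
    ext x
    rw [MonoidHom.mem_ker, hker, mem_image_iff]
    constructor
    · rintro ⟨a, ha, rfl⟩
      exact ⟨a, ha, a.2, tx_coe j a⟩
    · rintro ⟨a, ha, haS, rfl⟩
      exact ⟨⟨a, haS⟩, ha, (tx_apply j haS).symm⟩
  have hcenA : imageAlong j A ≤ Subgroup.center L := by
    rw [← hkerA]
    intro x hx
    exact hcen x hx
  have hcard₁ : Nat.card (imageAlong j A) = p := by
    rw [← hcard]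
    refine Nat.card_congr (Equiv.ofBijective
      (fun x : A => (⟨tx j x, mem_image_of_mem x.2 (hAS x.2)⟩ : imageAlong j A)) ⟨?_, ?_⟩).symm
    · intro a b hab
      have h1 : tx j (a : Ω) = tx j (b : Ω) := congrArg Subtype.val hab
      rw [tx_apply j (hAS a.2), tx_apply j (hAS b.2)] at h1
      have h2 := congrArg Subtype.val (hj h1)
      exact Subtype.ext h2
    · rintro ⟨y, hy⟩
      obtain ⟨x, hx, -, h1⟩ := mem_image_iff.1 hy
      exact ⟨⟨x, hx⟩, Subtype.ext h1⟩
  rw [hT] at hE₁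
  rw [hθ] at hE₁
  obtain ⟨i, hi, hir⟩ := hU q hq _ hkerA hcenA hcard₁ R (image_le hF₁ A) F₁ hF₁s hA₁ hE₁
  refine H781.isRealizable_of_isRealizedBy (realized_of_factor_bot hbot hF₁ hi) R ?_
  rw [range_cmp hF₁.2.2.1, hir]

/-- S5242 from `U`. -/
theorem exotic_iff {Ω : Type u} [Group Ω] {S : Subgroup Ω} [Finite S] (p : ℕ) [Fact p.Prime]
    (hU : U.{u} p) (hS : IsPGroup p S)
    (F : Cfsg.FusionSystem S) (hF : F.IsSaturated p) (A : Subgroup Ω) (hA : F.IsCentral A)
    {Ω' : Type v} [Group Ω'] {S' : Subgroup Ω'} [Finite S'] (θ : ↥S →* Ω')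
    (E : Cfsg.FusionSystem S') (hE : F.IsFactorSystem A θ E) : F.IsExotic p ↔ E.IsExotic p :=
  frame p (core_of_U hU) hS F hF A hA θ E hE

section group

variable {L : Type u} [Group L] {G : Type v} [Group G] {q : L →* G} {A T : Subgroup L}

/-- The fusion system of `L/A` is the factor system of the fusion system of `L`, `A ≤ T`. -/
theorem group_factor (hker : q.ker = A) (hq : Function.Surjective q) (hAT : A ≤ T) :
    (groupFusionSystem T).IsFactorSystem A (q.comp T.subtype) (groupFusionSystem (T.map q)) := by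
  have htx : ∀ x ∈ T, tx (q.comp T.subtype) x = q x := fun x hx => tx_apply _ hx
  have hpre : ∀ {P' : Subgroup G} {x : L}, x ∈ preimageAlong (q.comp T.subtype) P' ↔
      x ∈ T ∧ q x ∈ P' := by
    intro P' x
    rw [mem_pre_iff]
    constructor
    · rintro ⟨h1, h2⟩
      rw [htx x h1] at h2
      exact ⟨h1, h2⟩
    · rintro ⟨h1, h2⟩
      rw [htx x h1]
      exact ⟨h1, h2⟩
  have hT : ∀ x, q x ∈ T.map q → x ∈ T := by
    rintro x ⟨t, ht, htx⟩
    have h1 : t⁻¹ * x ∈ A := by
      rw [← hker, MonoidHom.mem_ker, map_mul, map_inv, htx, inv_mul_cancel]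
    have h2 : x = t * (t⁻¹ * x) := by group
    rw [h2]
    exact mul_mem ht (hAT h1)
  refine isFactorSystem_of_mp hAT (fun s => ?_) ?_ fun P' f' hP' => ?_
  · rw [← hker, MonoidHom.mem_ker]
    rfl
  · rw [MonoidHom.range_comp, Subgroup.range_subtype]
  · rw [mp_group_iff]
    constructor
    · rintro ⟨-, h1, g', hg⟩
      obtain ⟨g, rfl⟩ := hq g'
      refine ⟨fun x => g * x * g⁻¹, mp_group_iff.2 ⟨H759.preimageAlong_le, fun x hx => ?_, g,
        fun x _ => rfl⟩, fun x hx => ?_⟩
      · obtain ⟨hxT, hx'⟩ := hpre.1 hx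
        refine hT _ ?_
        rw [map_mul, map_mul, map_inv, ← hg _ hx']
        exact h1 _ hx'
      · obtain ⟨hxT, hx'⟩ := hpre.1 hx
        have h2 : g * x * g⁻¹ ∈ T := by
          refine hT _ ?_
          rw [map_mul, map_mul, map_inv, ← hg _ hx']
          exact h1 _ hx'
        rw [htx x hxT, htx _ h2, hg _ hx', map_mul, map_mul, map_inv]
    · rintro ⟨f, hf, h1⟩
      obtain ⟨-, h2, g, hg⟩ := mp_group_iff.1 hf
      have hex : ∀ y ∈ P', ∃ x, ∃ hx : x ∈ preimageAlong (q.comp T.subtype) P', q x = y := by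
        intro y hy
        obtain ⟨t, ht, rfl⟩ := hP' hy
        exact ⟨t, hpre.2 ⟨ht, hy⟩, rfl⟩
      refine ⟨hP', fun y hy => ?_, q g, fun y hy => ?_⟩
      · obtain ⟨x, hx, rfl⟩ := hex y hy
        have h3 := h1 x hx
        rw [htx x (hpre.1 hx).1, htx _ (h2 x hx)] at h3
        rw [h3]
        exact ⟨_, h2 x hx, rfl⟩
      · obtain ⟨x, hx, rfl⟩ := hex y hy
        have h3 := h1 x hx
        rw [htx x (hpre.1 hx).1, htx _ (h2 x hx), hg x hx] at h3
        rw [h3, map_mul, map_mul, map_inv]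

/-- `A ≤ Z(L) ∩ T` is central in the fusion system of `L` on `T`. -/
theorem group_central (hAT : A ≤ T) (hAZ : A ≤ Subgroup.center L) :
    (groupFusionSystem T).IsCentral A := by
  refine central_of_mp hAT fun P f hf => ?_
  obtain ⟨hP, h1, g, hg⟩ := mp_group_iff.1 hf
  have hfix : ∀ a ∈ A, g * a * g⁻¹ = a := by
    intro a ha
    rw [Subgroup.mem_center_iff.1 (hAZ ha) g, mul_inv_cancel_right]
  refine ⟨fun x => g * x * g⁻¹, mp_group_iff.2 ⟨sup_le hP hAT, fun x hx => ?_, g, fun x _ => rfl⟩,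
    fun x hx => (hg x hx).symm, hfix⟩
  have hle : P ⊔ A ≤ T.comap (MulAut.conj g).toMonoidHom := by
    refine sup_le (fun y hy => ?_) fun a ha => ?_
    · show g * y * g⁻¹ ∈ T
      rw [← hg y hy]
      exact h1 y hy
    · show g * a * g⁻¹ ∈ T
      rw [hfix a ha]
      exact hAT ha
  exact hle hx

end group

end Cfsg.Agent.H876.FC
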